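import Groth.Agent.Lib.AlgSpDecent.FieldDim
import Groth.Agent.Lib.AlgSpDecent.HasAtChart
import Groth.Agent.Lib.AlgSpRel14.Discrete
import Groth.Agent.Lib.AlgSpace.LocP
import Groth.Agent.S10390

/-!
# Fibres over field-valued points: discreteness, dimension zero, quasi-finiteness
-/

universe u

set_option backward.isDefEq.respectTransparency.types false

open CategoryTheory CategoryTheory.Limits AlgebraicGeometry Opposite MorphismProperty Topology
  TopologicalSpace

namespace Groth.Agent.AlgSpDecent27

open AlgSp Groth.Agent.AlgSpace Groth.Agent.AlgSpDecent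

section Field

variable {S : Scheme.{u}} {k : Type u} [Field k] {str : Spec (CommRingCat.of k) ⟶ S} {F : Sp S}

theorem chart_over_field {p : F ⟶ (yon S).obj (Over.mk str)} (hp : LocP @LocallyOfFiniteType p)
    {U : Over S} {a : (yon S).obj U ⟶ F} (ha : RepWith @Etale a) :
    ∃ g : U ⟶ Over.mk str, a ≫ p = (yon S).map g ≫ 𝟙 _ ∧ LocallyOfFiniteType g.left := by
  have e : a ≫ p = (yon S).map ((yon S).preimage (a ≫ p)) ≫ 𝟙 _ := by
    rw [Category.comp_id, Functor.map_preimage]
  exact ⟨_, e, hp a (𝟙 _) _ ha (MorphismProperty.of_isIso (RepWith (S := S) @Etale) _) e⟩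

theorem jacobson_field {p : F ⟶ (yon S).obj (Over.mk str)} (hp : LocP @LocallyOfFiniteType p)
    {U : Over S} {a : (yon S).obj U ⟶ F} (ha : RepWith @Etale a) :
    JacobsonSpace U.left ∧ IsLocallyNoetherian U.left := by
  obtain ⟨g, -, hg⟩ := chart_over_field hp ha
  exact ⟨LocallyOfFiniteType.jacobsonSpace (Y := Spec (CommRingCat.of k)) g.left,
    LocallyOfFiniteType.isLocallyNoetherian (Y := Spec (CommRingCat.of k)) g.left⟩

/-- The points of an open fibre of a chart are open. -/
theorem isOpen_singleton_of_isOpen_point (hF : IsAlgSpace F)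
    {p : F ⟶ (yon S).obj (Over.mk str)} (hp : LocP @LocallyOfFiniteType p)
    {x : Points F} (hx : IsOpen ({x} : Set (Points F)))
    {U : Over S} {a : (yon S).obj U ⟶ F} (ha : RepWith @Etale a)
    (u : U.left) (hu : Points.ofPt a u = x) : IsOpen ({u} : Set U.left) := by
  obtain ⟨hJ, hN⟩ := jacobson_field hp ha
  let P : U.left.Opens := ⟨Points.ofPt a ⁻¹' {x}, hx.preimage (Points.continuous_ofPt a)⟩
  obtain ⟨R, s, t, hs, ht, hrel, hcl⟩ := exists_chart_relation ha
  have := LocallyOfFiniteType.jacobsonSpace t.left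
  obtain ⟨c, hc, hcc⟩ := nonempty_inter_closedPoints (Z := (P : Set U.left)) ⟨u, hu⟩ P.isOpen.isLocallyClosed
  have hall : ∀ z ∈ P, IsClosed ({z} : Set U.left) := fun z hz => by
    obtain ⟨r, hr, hr'⟩ := hrel c z ((hc : Points.ofPt a c = x).trans (hz : Points.ofPt a z = x).symm)
    have hrc : IsLocallyClosed ({r} : Set R.left) := by
      have hdisc : _root_.IsDiscrete (t.left ⁻¹' {c}) :=
        have := locallyQuasiFinite_of_etale t.left
        t.left.isDiscrete_preimage_singleton c
      have := hdisc.to_subtype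
      obtain ⟨O, hO, he⟩ := isOpen_induced_iff.1
        (isOpen_discrete ({(⟨r, hr⟩ : t.left ⁻¹' {c})} : Set (t.left ⁻¹' {c})))
      rw [show ({r} : Set R.left) = O ∩ t.left ⁻¹' {c} by
        ext b
        constructor
        · rintro rfl
          exact ⟨(he.symm.subset rfl : (⟨b, hr⟩ : t.left ⁻¹' {c}) ∈ Subtype.val ⁻¹' O), hr⟩
        · rintro ⟨h1, h2⟩
          exact congrArg Subtype.val
            (he.subset (show (⟨b, h2⟩ : t.left ⁻¹' {c}) ∈ Subtype.val ⁻¹' O from h1))]
      exact hO.isLocallyClosed.inter (IsClosed.preimage t.left.continuous hcc).isLocallyClosed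
    rw [← hr']
    exact s.left.closePoints_subset_preimage_closedPoints
      (isClosed_singleton_of_isLocallyClosed_singleton hrc)
  have : IsLocallyNoetherian P.toScheme := isLocallyNoetherian_of_isOpenImmersion P.ι
  have : DiscreteTopology P.toScheme := discreteTopology_of_forall_specializes fun z w h =>
    Subtype.ext ((hall z.1 z.2).closure_subset
      (specializes_iff_mem_closure.1 (h.map P.ι.continuous))).symm
  have h2 := P.ι.isOpenEmbedding.isOpenMap _ (isOpen_discrete ({⟨u, hu⟩} : Set P.toScheme))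
  rwa [Set.image_singleton] at h2

theorem point_conditions (hF : IsAlgSpace F)
    {p : F ⟶ (yon S).obj (Over.mk str)} (hp : LocP @LocallyOfFiniteType p)
    (x : Points F) :
    (IsOpen ({x} : Set (Points F)) ↔
        (IsClosed ({x} : Set (Points F)) ∧ ∀ x' : Points F, x' ⤳ x → x' = x)) ∧
      (IsOpen ({x} : Set (Points F)) ↔ HasAt (fun U u => FlatMor.localDim ↥U u = 0) F x) ∧
      (IsDecent F → (FlatMor.localDim (Points F) x = 0 ↔ IsOpen ({x} : Set (Points F)))) := by
  obtain ⟨V, q, hqe, hqs⟩ := hF.atlas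
  obtain ⟨hJ, hN⟩ := jacobson_field hp hqe
  obtain ⟨v, rfl⟩ := surjective_ofPt hqs x
  have hopen : ∀ {u : V.left}, IsOpen ({u} : Set V.left) →
      IsOpen ({Points.ofPt q u} : Set (Points F)) := fun h => by
    have := isOpenMap_ofPt q hqe _ h
    rwa [Set.image_singleton] at this
  refine ⟨⟨fun h => ⟨?_, fun x' hx' => hx'.mem_open h rfl⟩, fun ⟨hc, hg⟩ => ?_⟩,
    ⟨fun h => ⟨V, q, v, hqe, rfl, ?_⟩, ?_⟩, fun hd => ⟨fun h => ?_, fun h => ?_⟩⟩
  · rw [← (isOpenQuotientMap_ofPt hqe hqs).isQuotientMap.isClosed_preimage]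
    refine closure_subset_iff_isClosed.1 fun z hz => ?_
    obtain ⟨O, hO, hzO, -⟩ := exists_isAffineOpen_mem_and_subset (X := V.left) (x := z) (U := ⊤) trivial
    have : IsNoetherianRing Γ(V.left, O) := IsLocallyNoetherian.component_noetherian ⟨O, hO⟩
    have hsub : (Points.ofPt q ⁻¹' {Points.ofPt q v} ∩ O : Set V.left).Finite := by
      have : NoetherianSpace O.toScheme := by
        haveI : NoetherianSpace (Spec Γ(V.left, O)) :=
          inferInstanceAs (NoetherianSpace (PrimeSpectrum Γ(V.left, O)))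
        exact noetherianSpace_of_surjective hO.isoSpec.inv hO.isoSpec.inv.continuous
          hO.isoSpec.inv.surjective
      let P : Set O.toScheme := O.ι ⁻¹' (Points.ofPt q ⁻¹' {Points.ofPt q v})
      have hPd : DiscreteTopology P := discreteTopology_iff_isOpen_singleton.2 fun w => by
        have h1 : IsOpen ((O.ι ∘ (Subtype.val : P → O.toScheme)) ⁻¹' {O.ι w.1}) :=
          (isOpen_singleton_of_isOpen_point hF hp h hqe _ w.2).preimage
            (O.ι.continuous.comp continuous_subtype_val)
        rwa [show ((O.ι ∘ Subtype.val) ⁻¹' {O.ι w.1} : Set P) = {w} from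
          Set.ext fun w' => ⟨fun e => Subtype.ext (O.ι.isOpenEmbedding.injective e),
            fun e => congrArg (fun t : P => O.ι t.1) e⟩] at h1
      have : CompactSpace P := isCompact_iff_compactSpace.1 (NoetherianSpace.isCompact _)
      have : Finite P := finite_of_compact_of_discrete
      refine ((Set.toFinite P).image O.ι).subset ?_
      rintro w ⟨hw, hwO⟩
      exact ⟨⟨w, hwO⟩, hw, rfl⟩
    have hclosed : IsClosed (Points.ofPt q ⁻¹' {Points.ofPt q v} ∩ O : Set V.left) := by
      rw [← Set.biUnion_of_singleton (Points.ofPt q ⁻¹' {Points.ofPt q v} ∩ O : Set V.left)]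
      refine hsub.isClosed_biUnion fun w hw => ?_
      exact isClosed_singleton_of_isLocallyClosed_singleton
        (isOpen_singleton_of_isOpen_point hF hp h hqe w hw.1).isLocallyClosed
    have hz' := O.isOpen.inter_closure ⟨hzO, hz⟩
    rw [Set.inter_comm] at hz'
    exact (hclosed.closure_subset hz').1
  · have hP : IsOpen (Points.ofPt q ⁻¹' {Points.ofPt q v}) :=
      isOpen_of_isClosed_stableUnderGeneralization (hc.preimage (Points.continuous_ofPt q))
        fun a b hab hb => hg _ ((hb : _ = _) ▸ hab.map (Points.continuous_ofPt q))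
    exact (isOpenQuotientMap_ofPt hqe hqs).isQuotientMap.isOpen_preimage.1 hP
  · exact (QF.localDim_eq_zero_iff v).2 (isOpen_singleton_of_isOpen_point hF hp h hqe v rfl)
  · rintro ⟨U, a, u, ha, hu, h⟩
    obtain ⟨hJ, hN⟩ := jacobson_field hp ha
    have := isOpenMap_ofPt a ha _ ((QF.localDim_eq_zero_iff u).1 h)
    rwa [Set.image_singleton, hu] at this
  · rw [← localDim_ofPt hF hd hqe] at h
    exact hopen ((QF.localDim_eq_zero_iff v).1 h)
  · rw [← localDim_ofPt hF hd hqe]
    exact (QF.localDim_eq_zero_iff v).2 (isOpen_singleton_of_isOpen_point hF hp h hqe v rfl)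

theorem discrete_iff_dim (hF : IsAlgSpace F) [Nonempty (Points F)]
    {p : F ⟶ (yon S).obj (Over.mk str)} (hp : LocP @LocallyOfFiniteType p) :
    (DiscreteTopology (Points F) ↔ AlgSp.dim F = 0) ∧
      (DiscreteTopology (Points F) → topologicalKrullDim (Points F) = 0) ∧
      (IsDecent F → topologicalKrullDim (Points F) = 0 → DiscreteTopology (Points F)) ∧
      (IsDecent F → Finite (Points F) → AlgSp.dim F = 0) := by
  obtain ⟨V, q, hqe, hqs⟩ := hF.atlas
  obtain ⟨hJ, hN⟩ := jacobson_field hp hqe
  have : Nonempty V.left := ⟨(surjective_ofPt hqs (Classical.arbitrary _)).choose⟩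
  have hiff : DiscreteTopology (Points F) ↔ AlgSp.dim F = 0 := by
    rw [dim_eq_of_chart hqe hqs]
    constructor
    · intro
      have : DiscreteTopology V.left := discreteTopology_iff_isOpen_singleton.2 fun v =>
        isOpen_singleton_of_isOpen_point hF hp (isOpen_discrete _) hqe v rfl
      exact le_antisymm (topologicalKrullDim_zero_of_discreteTopology _) TopDimLib.zero_le_dim
    · intro h
      have := IsLocallyArtinian.of_topologicalKrullDim_le_zero (X := V.left) h.le
      refine discreteTopology_iff_isOpen_singleton.2 fun x => ?_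
      obtain ⟨v, rfl⟩ := surjective_ofPt hqs x
      have := isOpenMap_ofPt q hqe _ (isOpen_discrete ({v} : Set V.left))
      rwa [Set.image_singleton] at this
  refine ⟨hiff, fun _ => le_antisymm (topologicalKrullDim_zero_of_discreteTopology _)
    TopDimLib.zero_le_dim, fun hd h => hiff.2 ?_, fun hd hfin => hiff.1 ?_⟩
  · rw [← h, topologicalKrullDim_points hF hd]
  · have : EtaleLocally (fun U => JacobsonSpace ↥U) F := ⟨V, q, hqe, hqs, hJ⟩
    have := (jacobson_iff_points hF hd).1 this
    have := t0Space_of_finFibres hF (finFibres_of_isDecent hF.diag hd)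
    exact JacobsonSpace.discreteTopology (Set.toFinite _)

/-- Over a field, quasi-finite at a point means isolated. -/
theorem qf_iff_isOpen (hF : IsAlgSpace F) {p : F ⟶ (yon S).obj (Over.mk str)}
    (hp : LocP @LocallyOfFiniteType p) (x : Points F) :
    HasAtMor (AlgSpRel14.Near AlgSpRel14.LqfLft) p x ↔ IsOpen ({x} : Set (Points F)) := by
  rw [(point_conditions hF hp x).2.1]
  obtain ⟨V, q, hqe, hqs⟩ := hF.atlas
  obtain ⟨v, rfl⟩ := surjective_ofPt hqs x
  obtain ⟨g, e, hg⟩ := chart_over_field hp hqe
  haveI := hg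
  haveI : Subsingleton (Over.mk str).left := inferInstanceAs (Subsingleton (PrimeSpectrum k))
  rw [AlgSpRel14.hasAtMor_near_iff AlgSpRel14.LqfLft hqe
    (MorphismProperty.of_isIso (RepWith (S := S) @Etale) _) e, AlgSpRel14.near_lqf_iff,
    hasAt_iff_of_chart (fun A B g _ a => by rw [localDim_etale g a]) hqe,
    FibDim14.fibreDimAt_eq_localDim_preimage]
  have hmem : ∀ w, w ∈ g.left ⁻¹' {g.left v} := fun w => Subsingleton.elim _ _
  refine Eq.congr_left (le_antisymm
    (FibDim14.localDim_le_of_isEmbedding (e := Subtype.val) IsEmbedding.subtypeVal _)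
    (FibDim14.localDim_le_of_isEmbedding (e := Set.codRestrict id (g.left ⁻¹' {g.left v}) hmem)
      (IsEmbedding.id.codRestrict _ hmem) v))

theorem closed_gen_iff {A B : Type*} [TopologicalSpace A] [TopologicalSpace B] (e : A ≃ₜ B) (z : A) :
    (IsClosed ({e z} : Set B) ∧ ∀ x' : B, x' ⤳ e z → x' = e z) ↔
      (IsClosed ({z} : Set A) ∧ ∀ x' : A, x' ⤳ z → x' = z) := by
  refine and_congr ?_ ⟨fun h a ha => e.injective (h _ (ha.map e.continuous)), fun h b hb => ?_⟩
  · rw [← Set.image_singleton, e.isClosed_image]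
  · have := h (e.symm b) (by simpa using hb.map e.symm.continuous)
    rw [← this, e.apply_symm_apply]

theorem localDim_congr {A B : Type u} [TopologicalSpace A] [TopologicalSpace B] (e : A ≃ₜ B) (z : A) :
    FlatMor.localDim B (e z) = FlatMor.localDim A z :=
  le_antisymm (by simpa using FibDim14.localDim_le_of_isEmbedding (e := e.symm) e.symm.isEmbedding (e z))
    (FibDim14.localDim_le_of_isEmbedding (e := e) e.isEmbedding z)

end Field

section Fibre

variable {S : Scheme.{u}} {X Y : Space S} (f : X ⟶ Y) (hf : LocP @LocallyOfFiniteType f.hom)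
  {r : FieldPt Y.obj} {Xk : Space S} {fst : Xk ⟶ X} {snd : Xk.obj ⟶ (yon S).obj r.pt}
  (hsq : IsPullback fst.hom snd f.hom r.toHom)

include hf hsq

theorem locP_snd : LocP @LocallyOfFiniteType snd :=
  locP_of_isPullback X.property Y.property (IsAlgSpace.yon_obj _) hsq hf

/-- A point of the fibre is isolated if and only if the morphism is quasi-finite at its image. -/
theorem isOpen_iff_qf (xt : Points Xk.obj) :
    IsOpen ({xt} : Set (Points Xk.obj)) ↔
      HasAtMor (AlgSpRel14.Near AlgSpRel14.LqfLft) f.hom (Points.map fst.hom xt) :=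
  ((AlgSpRel14.hasAtMor_near_lqf_baseChange X.property Y.property (IsAlgSpace.yon_obj _) hf hsq xt).trans
    (qf_iff_isOpen (k := r.K) Xk.property (locP_snd f hf hsq) xt)).symm

omit hf in
theorem map_fst_mem (xt : Points Xk.obj) :
    Points.map fst.hom xt ∈ Points.map f.hom ⁻¹' {Points.mk r} := by
  rw [Set.mem_preimage, ← Points.map_comp, hsq.w, Points.map_comp]
  exact map_toHom_eq r _

omit hf in
theorem exists_over {x : Points X.obj} (hx : Points.map f.hom x = Points.mk r) :
    ∃ xt : Points Xk.obj, Points.map fst.hom xt = x := by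
  obtain ⟨z, hz⟩ := exists_map_toHom_eq r
  exact mem_range_map_fst hsq x ⟨z, hz.trans hx.symm⟩

/-- Discreteness of the fibre is quasi-finiteness over the point. -/
theorem discrete_iff_qf :
    DiscreteTopology (Points Xk.obj) ↔ ∀ x : Points X.obj, Points.map f.hom x = Points.mk r →
      HasAtMor (AlgSpRel14.Near AlgSpRel14.LqfLft) f.hom x := by
  rw [discreteTopology_iff_isOpen_singleton]
  constructor
  · intro h x hx
    obtain ⟨xt, rfl⟩ := exists_over f hsq hx
    exact (isOpen_iff_qf f hf hsq xt).1 (h xt)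
  · exact fun h xt => (isOpen_iff_qf f hf hsq xt).2 (h _ (map_fst_mem f hsq xt))

end Fibre

/-- Over a decent base the topological fibre is the fibre over a monomorphism from the spectrum of a field. -/
theorem exists_mono_fibre {S : Scheme.{u}} {X Y : Space S} (f : X ⟶ Y)
    (hf : LocP @LocallyOfFiniteType f.hom) (hY : IsDecent Y.obj) (y : Points Y.obj) :
    ∃ (r : FieldPt Y.obj) (X0 : Space S) (snd : X0.obj ⟶ (yon S).obj r.pt)
      (e : Points X0.obj ≃ₜ ↥(Points.map f.hom ⁻¹' {y})),
      LocP @LocallyOfFiniteType snd ∧ (IsDecent X.obj → IsDecent X0.obj) ∧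
        ∀ z, IsOpen ({z} : Set (Points X0.obj)) ↔
          HasAtMor (AlgSpRel14.Near AlgSpRel14.LqfLft) f.hom (e z).1 := by
  obtain ⟨r, hr, hm, hq⟩ := hY y
  subst hr
  let X0 : Space S := ⟨pullback f.hom r.toHom,
    isAlgSpace_pullback Y.property X.property (IsAlgSpace.yon_obj _) (IsPullback.of_hasPullback _ _)⟩
  let fst : X0 ⟶ X := ObjectProperty.homMk (pullback.fst f.hom r.toHom)
  have sq : IsPullback fst.hom (pullback.snd f.hom r.toHom) f.hom r.toHom := IsPullback.of_hasPullback _ _
  obtain ⟨hemb, hrange⟩ := S10390.result f r hm hq X0 fst _ sq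
  refine ⟨r, X0, _, hemb.toHomeomorph.trans (Homeomorph.setCongr hrange), locP_snd f hf sq,
    fun hX => isDecent_of_isPullback Y.property.diag hX (isDecent_yon r.pt) sq, fun z => ?_⟩
  exact isOpen_iff_qf f hf sq z

end Groth.Agent.AlgSpDecent27
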